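import Cfsg.Agent.H763.Ore.SuzModel
import Cfsg.Agent.H123.Cls.Cover
import Cfsg.Agent.H123.Cls.SuzDat

/-!
# S2443 / S4171, the Suzuki group: the tables of the letters and the rows of the graph (helper763)
-/

set_option autoImplicit false
set_option maxRecDepth 100000
set_option exponentiation.threshold 5000

namespace Cfsg.Agent.H763.Ore.SuzTab

open Cfsg.Spor Cfsg.Agent.Lib.BitNet
open Cfsg.Agent.H763.Ore.SuzModel Cfsg.Agent.H123.Cls
open Cfsg.Agent.OddHalf.Table.SuzRep (ψ ψ_val)
open Cfsg.Agent.SporadicRecognition.SuzPhi (net net_ok gp φ_of)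
open Cfsg.Agent.Lib.PermNet (Net.pt_eq)

theorem row_chk : allN (fun p => Nat.beq (SuzDat.row p) (OddHalf.Table.SuzGraph.row p)) 1782 = true := by decide +kernel

theorem row_eq {p : ℕ} (hp : p < 1782) : SuzDat.row p = OddHalf.Table.SuzGraph.row p :=
  Nat.eq_of_beq_eq_true ((allN_iff _ _).1 row_chk p hp)

/-- `A` acts on the graph of `SuzDat` -/
theorem A_le_Aut : A ≤ Aut 1782 SuzDat.row := by
  intro σ hσ
  have h := A_le hσ
  intro i j
  rw [row_eq i.2, row_eq (σ i).2]
  exact h i j

theorem gen_tab (x : Suz.Gen) {P : ℕ} (h : allN (fun i => Nat.beq ((net x).pt i) (lk 11 P i)) 1782 = true) :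
    ∃ g ∈ N, ∀ p : Fin 1782, (g p : ℕ) = lk 11 P p := by
  refine ⟨ψ (PresentedGroup.of x), ⟨_, rfl⟩, fun i => ?_⟩
  rw [ψ_val, φ_of, gp, ← Net.pt_eq (net_ok x)]
  exact Nat.eq_of_beq_eq_true ((allN_iff _ _).1 h i i.2)

theorem ca : allN (fun i => Nat.beq ((net .a).pt i) (lk 11 SuzDat.ta i)) 1782 = true := by decide +kernel
theorem cb : allN (fun i => Nat.beq ((net .b).pt i) (lk 11 SuzDat.tb i)) 1782 = true := by decide +kernel
theorem cc : allN (fun i => Nat.beq ((net .c).pt i) (lk 11 SuzDat.tc i)) 1782 = true := by decide +kernel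
theorem cd : allN (fun i => Nat.beq ((net .d).pt i) (lk 11 SuzDat.td i)) 1782 = true := by decide +kernel
theorem ce : allN (fun i => Nat.beq ((net .e).pt i) (lk 11 SuzDat.te i)) 1782 = true := by decide +kernel
theorem cf : allN (fun i => Nat.beq ((net .f).pt i) (lk 11 SuzDat.tf i)) 1782 = true := by decide +kernel
theorem cg : allN (fun i => Nat.beq ((net .g).pt i) (lk 11 SuzDat.tg i)) 1782 = true := by decide +kernel

/-- the tables of the seven generators -/
noncomputable def tabs : List ℕ :=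
  [SuzDat.ta, SuzDat.tb, SuzDat.tc, SuzDat.td, SuzDat.te, SuzDat.tf, SuzDat.tg]

theorem tabs_ok : Tabs 11 N tabs := by
  intro x hx
  have hx' : x < 7 := hx
  interval_cases x
  · exact gen_tab .a ca
  · exact gen_tab .b cb
  · exact gen_tab .c cc
  · exact gen_tab .d cd
  · exact gen_tab .e ce
  · exact gen_tab .f cf
  · exact gen_tab .g cg

end Cfsg.Agent.H763.Ore.SuzTab
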