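import Cfsg.Agent.H763.Ore.SuzWord
import Cfsg.Agent.H78.Pw.Base

/-!
# S2465 / S2453, the Suzuki group: products of two elements of order 13 (and of order 11) (helper763)
-/

set_option autoImplicit false
set_option maxRecDepth 100000
set_option exponentiation.threshold 5000

namespace Cfsg.Agent.H763.Ore.SuzPw

open Cfsg.Spor Cfsg.Agent.Lib.BitNet
open Cfsg.Agent.H763.Ore.SuzModel Cfsg.Agent.H763.Ore.SuzTab Cfsg.Agent.H763.Ore.SuzWord Cfsg.Agent.H123.Cls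
open Cfsg.Agent.Lib.BitNetSimple (force force_eq)
open Cfsg.Agent.OddHalf.Table.SuzRep (ψ ψ_val ψ_injective)
open Cfsg.Agent.SporadicRecognition.SuzOrder (el eq_one_of_fix)
open Cfsg.Agent.SuzThree.Basic (el_append el_reverse)
open Cfsg.Agent.H78.Pw

/-- the `n`-th power of the word at `p` -/
noncomputable def evn (l : List ℕ) (n p : ℕ) : ℕ := Nat.rec p (fun _ ih => force ih fun q => evw 11 tabs l q) n

/-- the `n`-th power fixes the point -/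
noncomputable def fx (l : List ℕ) (n p : ℕ) : Bool := Nat.beq (evn l n p) p

/-- the `n`-th power fixes the five base points -/
noncomputable def fix5 (l : List ℕ) (n : ℕ) : Bool :=
  band (chkL 7 l) (band (fx l n 14) (band (fx l n 98) (band (fx l n 1) (band (fx l n 1575) (fx l n 0)))))

theorem evn_eq {l : List ℕ} (hl : ∀ x ∈ l, x < 7) (n : ℕ) (p : Fin 1782) :
    (ψ (el (l.map lt7) ^ n) p : ℕ) = evn l n p := by
  induction n with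
  | zero => rw [pow_zero, map_one]; rfl
  | succ n ih =>
    rw [pow_succ', map_mul, Equiv.Perm.mul_apply, ψ_word hl, ih]
    exact (force_eq (evn l n p) fun q => evw 11 tabs l q).symm

theorem fx_spec {l : List ℕ} (hl : ∀ x ∈ l, x < 7) {n p : ℕ} (hp : p < 1782) (h : fx l n p = true) :
    SporadicRecognition.SuzPhi.φ (el (l.map lt7) ^ n) p = p := by
  have h1 := evn_eq hl n ⟨p, hp⟩
  rw [ψ_val] at h1
  exact h1.trans (Nat.eq_of_beq_eq_true h)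

theorem pow_of_fix5 {l : List ℕ} {n : ℕ} (h : fix5 l n = true) : el (l.map lt7) ^ n = 1 := by
  obtain ⟨h0, h⟩ := band_true h
  obtain ⟨h1, h⟩ := band_true h
  obtain ⟨h2, h⟩ := band_true h
  obtain ⟨h3, h⟩ := band_true h
  obtain ⟨h4, h5⟩ := band_true h
  have hl := chkL_iff 7 l h0
  apply eq_one_of_fix
  intro q hq
  simp only [List.mem_cons, List.not_mem_nil, or_false] at hq
  rcases hq with rfl | rfl | rfl | rfl | rfl
  · exact fx_spec hl (by norm_num) h1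
  · exact fx_spec hl (by norm_num) h2
  · exact fx_spec hl (by norm_num) h3
  · exact fx_spec hl (by norm_num) h4
  · exact fx_spec hl (by norm_num) h5

/-- product of two elements with `n`-th power `1` -/
def Q (n : ℕ) (g : Suz) : Prop := ∃ x y : Suz, g = x * y ∧ x ^ n = 1 ∧ y ^ n = 1

theorem q_transfer {n : ℕ} {g s : Suz} {a : Equiv.Perm (Fin 1782)} (ha : a ∈ A) (h : ψ g = a * ψ s * a⁻¹) (hs : Q n s) :
    Q n g := by
  obtain ⟨x, y, rfl, hx, hy⟩ := hs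
  have key : ∀ t : Suz, t ^ n = 1 → ∃ u : Suz, u ^ n = 1 ∧ ψ u = a * ψ t * a⁻¹ := by
    intro t ht
    obtain ⟨u, hu⟩ := A_conj ha (⟨t, rfl⟩ : ψ t ∈ N)
    refine ⟨u, ψ_injective ?_, hu⟩
    rw [map_pow, hu, map_one, conj_pow, ← map_pow, ht, map_one]
    group
  obtain ⟨u, k1, e1⟩ := key x hx
  obtain ⟨v, k2, e2⟩ := key y hy
  refine ⟨u, v, ψ_injective ?_, k1, k2⟩
  rw [h]
  simp only [map_mul, e1, e2]
  group

/-- the certificate -/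
noncomputable def cert (n : ℕ) (a b x y : List ℕ) : Bool :=
  band (fix5 x n) (band (fix5 y n) (fix5 (x ++ (y ++ (b ++ (a ++ (b.reverse ++ a.reverse))))) 1))

theorem q_of_cert {n : ℕ} {a b x y : List ℕ} (h : cert n a b x y = true) :
    Q n (el (a.map lt7) * el (b.map lt7) * (el (a.map lt7))⁻¹ * (el (b.map lt7))⁻¹) := by
  obtain ⟨h1, h⟩ := band_true h
  obtain ⟨h2, h3⟩ := band_true h
  refine ⟨_, _, ?_, pow_of_fix5 h1, pow_of_fix5 h2⟩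
  have h4 := pow_of_fix5 h3
  simp only [List.map_append, List.map_reverse, el_append, el_reverse, pow_one] at h4
  rw [← mul_assoc] at h4
  rw [eq_inv_of_mul_eq_one_left h4]
  group

theorem p13_0 : cert 13 (nA 0) (nB 0) [5, 1, 2, 3, 2, 3, 4] [4, 3, 2, 3, 2, 1, 6, 5, 6] = true := by decide +kernel
theorem p13_1 : cert 13 (nA 1) (nB 1) [0, 1, 2, 1, 3, 4, 5] [5, 4, 3, 1, 2, 1, 0] = true := by decide +kernel
theorem p13_2 : cert 13 (nA 2) (nB 2) [4, 3, 2, 1, 3, 2, 6] [6, 2, 3, 1, 2, 3, 2, 1, 6, 3, 2, 1, 3, 2, 3, 6, 1, 2, 4, 3, 1] = true := by decide +kernel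
theorem p13_3 : cert 13 (nA 3) (nB 3) [2, 4, 3, 2, 1, 0, 6] [6, 0, 1, 2, 3, 4, 3, 2, 1, 6, 5, 1, 2, 1, 5, 6, 1, 2, 3] = true := by decide +kernel
theorem p13_4 : cert 13 (nA 4) (nB 4) [0, 4, 3, 2, 5, 1, 2] [2, 1, 5, 2, 3, 4, 0, 2, 1, 6, 5, 3, 1, 2, 1, 3, 5, 6, 1] = true := by decide +kernel
theorem p13_5 : cert 13 (nA 5) (nB 5) [1, 0, 4, 6, 1, 2, 3] [3, 2, 1, 6, 4, 0, 3, 6, 5, 1, 4, 2, 1, 5, 6, 3, 1, 2, 4] = true := by decide +kernel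
theorem p13_6 : cert 13 (nA 6) (nB 6) [1, 2, 3, 2, 3, 4, 5] [5, 4, 3, 2, 3, 1, 2] = true := by decide +kernel
theorem p13_7 : cert 13 (nA 7) (nB 7) [1, 4, 3, 2, 3, 2, 5] [5, 2, 3, 2, 6, 2, 4, 1, 2, 6, 3] = true := by decide +kernel
theorem p13_8 : cert 13 (nA 8) (nB 8) [0, 1, 2, 1, 3, 4, 5] [5, 4, 3, 1, 2, 1, 0, 5, 4, 6, 2, 1, 2, 3, 2, 6, 4, 5, 3, 2, 1] = true := by decide +kernel
theorem p13_9 : cert 13 (nA 9) (nB 9) [5, 1, 0, 2, 3, 2, 4] [4, 2, 3, 2, 0, 3, 2, 4, 6, 1, 3, 1, 5, 1, 6, 4, 2] = true := by decide +kernel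
theorem p13_10 : cert 13 (nA 10) (nB 10) [1, 2, 1, 0, 3, 4, 6] [6, 4, 3, 0, 1, 2, 0, 3, 1, 5, 6, 2, 4, 1, 6, 5, 1, 3, 0, 4, 2] = true := by decide +kernel
theorem p13_11 : cert 13 (nA 11) (nB 11) [4, 6, 5, 1, 2, 3, 2, 3, 6] [6, 3, 2, 5, 6, 4, 3, 2, 1] = true := by decide +kernel
theorem p13_12 : cert 13 (nA 12) (nB 12) [1, 4, 3, 2, 3, 2, 5] [5, 2, 3, 2, 3, 2, 3, 4, 1, 3, 2] = true := by decide +kernel
theorem p13_13 : cert 13 (nA 13) (nB 13) [4, 3, 2, 3, 2, 5, 1] [1, 5, 2, 3, 2, 3, 0, 3, 1, 0, 4, 1, 3] = true := by decide +kernel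
theorem p13_14 : cert 13 (nA 14) (nB 14) [1, 0, 2, 3, 2, 4, 5] [5, 4, 2, 3, 2, 1, 0] = true := by decide +kernel
theorem p13_15 : cert 13 (nA 15) (nB 15) [2, 4, 3, 2, 1, 0, 6] [6, 0, 1, 2, 3, 1, 0, 3, 1, 6, 0, 1, 4, 2, 6, 1, 3] = true := by decide +kernel
theorem p13_16 : cert 13 (nA 16) (nB 16) [1, 2, 3, 2, 3, 4, 5] [5, 4, 3, 2, 3, 4, 3, 5, 4, 2, 1, 5, 3] = true := by decide +kernel
theorem p13_17 : cert 13 (nA 17) (nB 17) [2, 1, 3, 2, 3, 4, 3, 5] [5, 3, 4, 3, 2, 3, 6, 3, 1, 2, 3, 6] = true := by decide +kernel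
theorem p13_18 : cert 13 (nA 18) (nB 18) [2, 4, 6, 1, 0, 2, 3] [3, 2, 0, 1, 3, 1, 6, 4, 2, 1, 3] = true := by decide +kernel
theorem p13_19 : cert 13 (nA 19) (nB 19) [2, 3, 2, 1, 4, 3, 6] [6, 3, 4, 1, 2, 6, 4, 2, 5, 3, 1, 5, 2, 4, 6, 3, 2, 1, 3] = true := by decide +kernel
theorem p13_20 : cert 13 (nA 20) (nB 20) [0, 2, 4, 6, 1, 2, 3] [3, 2, 1, 6, 4, 2, 0, 6, 5, 3, 2, 1, 3, 5, 6, 1, 2] = true := by decide +kernel
theorem p13_21 : cert 13 (nA 21) (nB 21) [4, 3, 2, 1, 3, 2, 5] [5, 2, 3, 1, 2, 3, 2, 1, 6, 3, 5, 1, 2, 4, 5, 3, 6] = true := by decide +kernel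
theorem p13_22 : cert 13 (nA 22) (nB 22) [3, 2, 3, 2, 1, 4, 6] [6, 4, 1, 2, 3, 0, 1, 0, 4, 6, 1, 5, 1, 0, 2, 3, 5, 1, 6, 4, 0] = true := by decide +kernel
theorem p13_23 : cert 13 (nA 23) (nB 23) [4, 3, 2, 3, 6, 1, 2] [2, 1, 6, 3, 2, 0, 2, 1, 6, 0, 3, 6, 1, 2, 5, 4, 0, 6, 1, 2, 0, 3, 5, 2, 1, 6, 3] = true := by decide +kernel
theorem p13_24 : cert 13 (nA 24) (nB 24) [2, 1, 0, 3, 4, 5, 1] [1, 5, 4, 3, 0, 5, 3, 1, 0, 5, 1, 2, 0, 1, 3] = true := by decide +kernel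
theorem p13_25 : cert 13 (nA 25) (nB 25) [3, 2, 1, 4, 3, 2, 5] [5, 2, 3, 0, 1, 2, 3, 0, 4] = true := by decide +kernel
theorem p13_26 : cert 13 (nA 26) (nB 26) [3, 4, 6, 1, 2, 3, 2] [2, 3, 2, 1, 6, 4, 1, 6, 5, 1, 2, 1, 3, 2, 1, 5, 6] = true := by decide +kernel
theorem p13_27 : cert 13 (nA 27) (nB 27) [3, 2, 1, 3, 2, 4, 5] [5, 4, 2, 3, 1, 2, 0, 1, 2, 6, 5, 4, 1, 5, 6, 2, 1, 0, 3, 1, 4] = true := by decide +kernel
theorem p13_28 : cert 13 (nA 28) (nB 28) [4, 3, 2, 1, 0, 5, 1] [1, 5, 0, 1, 2, 3, 2, 3, 2, 4, 3] = true := by decide +kernel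
theorem p13_29 : cert 13 (nA 29) (nB 29) [0, 1, 3, 2, 1, 4, 6] [6, 4, 1, 2, 3, 1, 0, 1, 6, 5, 1, 2, 6, 1, 2, 1, 5] = true := by decide +kernel
theorem p13_30 : cert 13 (nA 30) (nB 30) [5, 1, 2, 3, 2, 6, 1, 2, 3, 4] [4, 3, 2, 1, 6, 2, 0, 4, 1, 3, 2, 1, 5, 1, 4, 0] = true := by decide +kernel
theorem p13_31 : cert 13 (nA 31) (nB 31) [3, 2, 1, 4, 6, 1, 2, 5] [5, 2, 5, 1, 2, 3, 2, 1, 5, 1, 6, 4, 1, 2] = true := by decide +kernel
theorem p13_32 : cert 13 (nA 32) (nB 32) [0, 1, 2, 3, 2, 4, 5] [5, 4, 2, 3, 2, 1, 0, 5, 3, 1, 6, 1, 2, 6, 1, 3, 5, 2, 1] = true := by decide +kernel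
theorem p13_33 : cert 13 (nA 33) (nB 33) [1, 2, 1, 0, 3, 4, 5] [5, 4, 3, 0, 1, 2, 6, 5, 2, 6, 1, 2, 5] = true := by decide +kernel
theorem p13_34 : cert 13 (nA 34) (nB 34) [1, 3, 4, 3, 2, 3, 2, 5] [5, 2, 3, 2, 3, 2, 0, 3, 1, 0, 2, 4] = true := by decide +kernel
theorem p13_35 : cert 13 (nA 35) (nB 35) [3, 2, 1, 0, 4, 5, 1] [1, 5, 4, 0, 1, 3, 2] = true := by decide +kernel
theorem p13_36 : cert 13 (nA 36) (nB 36) [3, 4, 5, 1, 2, 3, 2] [2, 3, 2, 1, 5, 3, 4] = true := by decide +kernel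
theorem p11_0 : cert 11 (nA 0) (nB 0) [5, 6, 1, 2, 3, 4] [4, 3, 2, 1, 5, 6] = true := by decide +kernel
theorem p11_1 : cert 11 (nA 1) (nB 1) [1, 2, 3, 4, 5, 6] [6, 5, 4, 3, 2, 1] = true := by decide +kernel
theorem p11_2 : cert 11 (nA 2) (nB 2) [3, 2, 4, 6, 1, 5] [5, 1, 6, 4, 2, 3, 4, 2, 1, 6, 3, 2, 1, 3, 2, 3, 6, 1, 2, 4, 3, 1] = true := by decide +kernel
theorem p11_3 : cert 11 (nA 3) (nB 3) [2, 3, 4, 5, 6, 1] [1, 6, 5, 4, 2, 1, 6, 5, 1, 2, 1, 5, 6, 1, 2, 3] = true := by decide +kernel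
theorem p11_4 : cert 11 (nA 4) (nB 4) [2, 1, 3, 4, 6, 5] [5, 6, 4, 3, 6, 5, 3, 1, 2, 1, 3, 5, 6, 1] = true := by decide +kernel
theorem p11_5 : cert 11 (nA 5) (nB 5) [1, 3, 2, 4, 6, 5] [5, 6, 4, 2, 6, 5, 1, 4, 2, 1, 5, 6, 3, 1, 2, 4] = true := by decide +kernel
theorem p11_6 : cert 11 (nA 6) (nB 6) [1, 2, 3, 4, 5, 6] [6, 5, 4, 3, 1, 2] = true := by decide +kernel
theorem p11_7 : cert 11 (nA 7) (nB 7) [1, 4, 3, 2, 5, 6] [6, 5, 2, 6, 2, 4, 1, 2, 6, 3] = true := by decide +kernel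
theorem p11_8 : cert 11 (nA 8) (nB 8) [4, 3, 2, 1, 5, 6] [6, 5, 1, 2, 3, 4, 5, 4, 6, 2, 1, 2, 3, 2, 6, 4, 5, 3, 2, 1] = true := by decide +kernel
theorem p11_9 : cert 11 (nA 9) (nB 9) [5, 1, 2, 3, 4, 6] [6, 4, 3, 2, 3, 2, 4, 6, 1, 3, 1, 5, 1, 6, 4, 2] = true := by decide +kernel
theorem p11_10 : cert 11 (nA 10) (nB 10) [1, 2, 3, 4, 5, 6] [6, 5, 4, 3, 2, 0, 3, 1, 5, 6, 2, 4, 1, 6, 5, 1, 3, 0, 4, 2] = true := by decide +kernel
theorem p11_11 : cert 11 (nA 11) (nB 11) [4, 6, 5, 1, 2, 3] [5, 6, 4, 3, 2, 1] = true := by decide +kernel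
theorem p11_12 : cert 11 (nA 12) (nB 12) [1, 4, 3, 2, 5, 6] [6, 5, 2, 3, 2, 3, 4, 1, 3, 2] = true := by decide +kernel
theorem p11_13 : cert 11 (nA 13) (nB 13) [4, 3, 2, 5, 6, 1] [1, 6, 5, 2, 3, 0, 3, 1, 0, 4, 1, 3] = true := by decide +kernel
theorem p11_14 : cert 11 (nA 14) (nB 14) [1, 2, 3, 4, 5, 6] [6, 5, 4, 3, 2, 0, 1, 0] = true := by decide +kernel
theorem p11_15 : cert 11 (nA 15) (nB 15) [1, 3, 2, 4, 5, 6] [6, 5, 4, 2, 3, 1, 2, 4, 1, 0, 3, 1, 6, 0, 1, 4, 2, 6, 1, 3] = true := by decide +kernel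
theorem p11_16 : cert 11 (nA 16) (nB 16) [1, 2, 4, 3, 5, 6] [6, 4, 2, 1, 5, 3] = true := by decide +kernel
theorem p11_17 : cert 11 (nA 17) (nB 17) [2, 1, 3, 4, 5, 6] [6, 5, 4, 3, 6, 3, 1, 2, 3, 6] = true := by decide +kernel
theorem p11_18 : cert 11 (nA 18) (nB 18) [2, 4, 3, 5, 6, 1] [1, 6, 5, 3, 6, 3, 1, 6, 4, 2, 1, 3] = true := by decide +kernel
theorem p11_19 : cert 11 (nA 19) (nB 19) [2, 3, 4, 5, 6, 1] [1, 6, 5, 4, 6, 4, 2, 5, 3, 1, 5, 2, 4, 6, 3, 2, 1, 3] = true := by decide +kernel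
theorem p11_20 : cert 11 (nA 20) (nB 20) [6, 1, 2, 3, 4, 5] [5, 4, 3, 2, 1, 5, 3, 2, 1, 3, 5, 6, 1, 2] = true := by decide +kernel
theorem p11_21 : cert 11 (nA 21) (nB 21) [4, 3, 2, 5, 6, 1] [1, 6, 5, 2, 3, 2, 1, 6, 3, 5, 1, 2, 4, 5, 3, 6] = true := by decide +kernel
theorem p11_22 : cert 11 (nA 22) (nB 22) [3, 2, 1, 4, 5, 6] [6, 5, 4, 1, 0, 1, 0, 4, 6, 1, 5, 1, 0, 2, 3, 5, 1, 6, 4, 0] = true := by decide +kernel
theorem p11_23 : cert 11 (nA 23) (nB 23) [4, 3, 5, 1, 2, 6] [6, 2, 1, 5, 0, 2, 1, 6, 0, 3, 6, 1, 2, 5, 4, 0, 6, 1, 2, 0, 3, 5, 2, 1, 6, 3] = true := by decide +kernel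
theorem p11_24 : cert 11 (nA 24) (nB 24) [1, 2, 3, 4, 5, 6] [6, 5, 4, 3, 2, 1, 2, 1, 5, 3, 1, 0, 5, 1, 2, 0, 1, 3] = true := by decide +kernel
theorem p11_25 : cert 11 (nA 25) (nB 25) [3, 2, 1, 4, 5, 6] [6, 5, 0, 1, 2, 3, 0, 4] = true := by decide +kernel
theorem p11_26 : cert 11 (nA 26) (nB 26) [3, 2, 1, 4, 5, 6] [6, 5, 4, 1, 2, 1, 6, 5, 1, 2, 1, 3, 2, 1, 5, 6] = true := by decide +kernel
theorem p11_27 : cert 11 (nA 27) (nB 27) [2, 3, 4, 5, 1, 6] [6, 1, 5, 4, 3, 2, 3, 0, 1, 2, 6, 5, 4, 1, 5, 6, 2, 1, 0, 3, 1, 4] = true := by decide +kernel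
theorem p11_28 : cert 11 (nA 28) (nB 28) [4, 3, 2, 1, 5, 6] [6, 5, 1, 2, 3, 2, 3, 2, 4, 3] = true := by decide +kernel
theorem p11_29 : cert 11 (nA 29) (nB 29) [1, 3, 4, 6, 1, 2, 5, 1] [1, 5, 2, 1, 6, 4, 3, 6, 5, 1, 2, 6, 1, 2, 1, 5] = true := by decide +kernel
theorem p11_30 : cert 11 (nA 30) (nB 30) [3, 2, 4, 5, 6, 1] [1, 6, 5, 4, 2, 3, 5, 1, 2, 3, 0, 4, 1, 3, 2, 1, 5, 1, 4, 0] = true := by decide +kernel
theorem p11_31 : cert 11 (nA 31) (nB 31) [3, 2, 1, 4, 6, 5] [5, 1, 5, 1, 2, 3, 2, 1, 5, 1, 6, 4, 1, 2] = true := by decide +kernel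
theorem p11_32 : cert 11 (nA 32) (nB 32) [1, 4, 3, 2, 6, 5] [5, 6, 2, 3, 4, 1, 5, 3, 1, 6, 1, 2, 6, 1, 3, 5, 2, 1] = true := by decide +kernel
theorem p11_33 : cert 11 (nA 33) (nB 33) [1, 2, 3, 4, 5, 6] [6, 5, 4, 3, 2, 6, 5, 2, 6, 1, 2, 5] = true := by decide +kernel
theorem p11_34 : cert 11 (nA 34) (nB 34) [1, 3, 2, 4, 5, 6] [6, 5, 4, 2, 4, 2, 0, 3, 1, 0, 2, 4] = true := by decide +kernel
theorem p11_35 : cert 11 (nA 35) (nB 35) [3, 2, 1, 4, 5, 6] [6, 5, 4, 1, 3, 2] = true := by decide +kernel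
theorem p11_36 : cert 11 (nA 36) (nB 36) [3, 4, 5, 1, 2, 6] [6, 2, 1, 5, 3, 4] = true := by decide +kernel

theorem q13 (i : Fin 37) : Q 13 (el ((nA i).map lt7) * el ((nB i).map lt7) * (el ((nA i).map lt7))⁻¹ * (el ((nB i).map lt7))⁻¹) := by
  fin_cases i
  · exact q_of_cert p13_0
  · exact q_of_cert p13_1
  · exact q_of_cert p13_2
  · exact q_of_cert p13_3
  · exact q_of_cert p13_4
  · exact q_of_cert p13_5
  · exact q_of_cert p13_6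
  · exact q_of_cert p13_7
  · exact q_of_cert p13_8
  · exact q_of_cert p13_9
  · exact q_of_cert p13_10
  · exact q_of_cert p13_11
  · exact q_of_cert p13_12
  · exact q_of_cert p13_13
  · exact q_of_cert p13_14
  · exact q_of_cert p13_15
  · exact q_of_cert p13_16
  · exact q_of_cert p13_17
  · exact q_of_cert p13_18
  · exact q_of_cert p13_19
  · exact q_of_cert p13_20
  · exact q_of_cert p13_21
  · exact q_of_cert p13_22
  · exact q_of_cert p13_23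
  · exact q_of_cert p13_24
  · exact q_of_cert p13_25
  · exact q_of_cert p13_26
  · exact q_of_cert p13_27
  · exact q_of_cert p13_28
  · exact q_of_cert p13_29
  · exact q_of_cert p13_30
  · exact q_of_cert p13_31
  · exact q_of_cert p13_32
  · exact q_of_cert p13_33
  · exact q_of_cert p13_34
  · exact q_of_cert p13_35
  · exact q_of_cert p13_36

theorem q11 (i : Fin 37) : Q 11 (el ((nA i).map lt7) * el ((nB i).map lt7) * (el ((nA i).map lt7))⁻¹ * (el ((nB i).map lt7))⁻¹) := by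
  fin_cases i
  · exact q_of_cert p11_0
  · exact q_of_cert p11_1
  · exact q_of_cert p11_2
  · exact q_of_cert p11_3
  · exact q_of_cert p11_4
  · exact q_of_cert p11_5
  · exact q_of_cert p11_6
  · exact q_of_cert p11_7
  · exact q_of_cert p11_8
  · exact q_of_cert p11_9
  · exact q_of_cert p11_10
  · exact q_of_cert p11_11
  · exact q_of_cert p11_12
  · exact q_of_cert p11_13
  · exact q_of_cert p11_14
  · exact q_of_cert p11_15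
  · exact q_of_cert p11_16
  · exact q_of_cert p11_17
  · exact q_of_cert p11_18
  · exact q_of_cert p11_19
  · exact q_of_cert p11_20
  · exact q_of_cert p11_21
  · exact q_of_cert p11_22
  · exact q_of_cert p11_23
  · exact q_of_cert p11_24
  · exact q_of_cert p11_25
  · exact q_of_cert p11_26
  · exact q_of_cert p11_27
  · exact q_of_cert p11_28
  · exact q_of_cert p11_29
  · exact q_of_cert p11_30
  · exact q_of_cert p11_31
  · exact q_of_cert p11_32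
  · exact q_of_cert p11_33
  · exact q_of_cert p11_34
  · exact q_of_cert p11_35
  · exact q_of_cert p11_36

/-- **two elements of order dividing 13, or dividing 11, from the cover** -/
theorem q_of_cover {tab : Fin 37 → ℕ} (hC : ∀ i : Fin 37, chkC 1782 11 tabs (tab i) (nA i) (nB i) = true)
    (hcov : ∀ g ∈ N, ∃ i : Fin 37, ∃ r ∈ N, (∀ p : Fin 1782, (r p : ℕ) = lk 11 (tab i) p) ∧ ∃ a ∈ A, g = a * r * a⁻¹)
    (g : Suz) : Q 13 g ∧ Q 11 g := by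
  obtain ⟨i, r, _, hr, a, ha, h⟩ := hcov (ψ g) ⟨g, rfl⟩
  rw [eq_of_tab hr (comm_tab (hC i))] at h
  exact ⟨q_transfer ha h (q13 i), q_transfer ha h (q11 i)⟩

/-- **`Pw Suz` from the cover** -/
theorem pw_of_cover {tab : Fin 37 → ℕ} (hC : ∀ i : Fin 37, chkC 1782 11 tabs (tab i) (nA i) (nB i) = true)
    (hcov : ∀ g ∈ N, ∃ i : Fin 37, ∃ r ∈ N, (∀ p : Fin 1782, (r p : ℕ) = lk 11 (tab i) p) ∧ ∃ a ∈ A, g = a * r * a⁻¹) :
    Pw Suz := by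
  have key : ∀ (q n : ℕ), q.Coprime n → (∀ g : Suz, Q q g) → All n Suz := by
    intro q n hq hQ
    refine All.of_two_pgroup hq fun g => ?_
    obtain ⟨x, y, e, hx, hy⟩ := hQ g
    exact ⟨x, y, e, ⟨1, by rwa [pow_one]⟩, 1, by rwa [pow_one]⟩
  refine ⟨key 13 6 (by decide) fun g => (q_of_cover hC hcov g).1, fun p hp h5 => ?_⟩
  by_cases h : p = 13
  · subst h
    exact key 11 13 (by decide) fun g => (q_of_cover hC hcov g).2
  · refine key 13 p ?_ fun g => (q_of_cover hC hcov g).1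
    exact (Nat.coprime_primes (by norm_num) hp).2 (Ne.symm h)

end Cfsg.Agent.H763.Ore.SuzPw
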