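import Cfsg.Agent.H123.Cls.SuzOre
import Cfsg.Agent.H763.Ore.SuzPw
import Cfsg.Agent.H134.Sq.Base

/-!
# The Suzuki group: `four_suz` (S4171), `pw_suz` (S2465), `sq_suz` (S2453) (helper763)
-/

set_option autoImplicit false
set_option maxRecDepth 100000
set_option exponentiation.threshold 5000

namespace Cfsg.Agent.H763.Ore.SuzFin

open Cfsg.Spor Cfsg.Agent.H763.Ore.SuzModel Cfsg.Agent.H763.Ore.SuzWord
open Cfsg.Agent.H123.Cls.SuzDat (W words_cover gn)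
open Cfsg.Agent.OddHalf.Table.SuzRep (ψ ψ_injective)
open Cfsg.Agent.SporadicRecognition.SuzOrder (el)
open Cfsg.Agent.H777.Ore

theorem gn_eq (x : ℕ) : gn x = lt7 x := by
  match x with
  | 0 => rfl
  | 1 => rfl
  | 2 => rfl
  | 3 => rfl
  | 4 => rfl
  | 5 => rfl
  | n + 6 => rfl

theorem W_words : ∀ y ∈ W, ∃ i : Fin 37, y.2.1 = nA i ∧ y.2.2 = nB i :=
  List.forall_mem_cons.2 ⟨⟨0, rfl, rfl⟩, List.forall_mem_cons.2 ⟨⟨1, rfl, rfl⟩, List.forall_mem_cons.2 ⟨⟨2, rfl, rfl⟩, 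
  List.forall_mem_cons.2 ⟨⟨3, rfl, rfl⟩, List.forall_mem_cons.2 ⟨⟨4, rfl, rfl⟩, List.forall_mem_cons.2 ⟨⟨5, rfl, rfl⟩, 
  List.forall_mem_cons.2 ⟨⟨6, rfl, rfl⟩, List.forall_mem_cons.2 ⟨⟨7, rfl, rfl⟩, List.forall_mem_cons.2 ⟨⟨8, rfl, rfl⟩, 
  List.forall_mem_cons.2 ⟨⟨9, rfl, rfl⟩, List.forall_mem_cons.2 ⟨⟨10, rfl, rfl⟩, List.forall_mem_cons.2 ⟨⟨11, rfl, rfl⟩, 
  List.forall_mem_cons.2 ⟨⟨12, rfl, rfl⟩, List.forall_mem_cons.2 ⟨⟨13, rfl, rfl⟩, List.forall_mem_cons.2 ⟨⟨14, rfl, rfl⟩, 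
  List.forall_mem_cons.2 ⟨⟨15, rfl, rfl⟩, List.forall_mem_cons.2 ⟨⟨16, rfl, rfl⟩, List.forall_mem_cons.2 ⟨⟨17, rfl, rfl⟩, 
  List.forall_mem_cons.2 ⟨⟨18, rfl, rfl⟩, List.forall_mem_cons.2 ⟨⟨19, rfl, rfl⟩, List.forall_mem_cons.2 ⟨⟨20, rfl, rfl⟩, 
  List.forall_mem_cons.2 ⟨⟨21, rfl, rfl⟩, List.forall_mem_cons.2 ⟨⟨22, rfl, rfl⟩, List.forall_mem_cons.2 ⟨⟨23, rfl, rfl⟩, 
  List.forall_mem_cons.2 ⟨⟨24, rfl, rfl⟩, List.forall_mem_cons.2 ⟨⟨25, rfl, rfl⟩, List.forall_mem_cons.2 ⟨⟨26, rfl, rfl⟩, 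
  List.forall_mem_cons.2 ⟨⟨27, rfl, rfl⟩, List.forall_mem_cons.2 ⟨⟨28, rfl, rfl⟩, List.forall_mem_cons.2 ⟨⟨29, rfl, rfl⟩, 
  List.forall_mem_cons.2 ⟨⟨30, rfl, rfl⟩, List.forall_mem_cons.2 ⟨⟨31, rfl, rfl⟩, List.forall_mem_cons.2 ⟨⟨32, rfl, rfl⟩, 
  List.forall_mem_cons.2 ⟨⟨33, rfl, rfl⟩, List.forall_mem_cons.2 ⟨⟨34, rfl, rfl⟩, List.forall_mem_cons.2 ⟨⟨35, rfl, rfl⟩, 
  List.forall_mem_cons.2 ⟨⟨36, rfl, rfl⟩, List.forall_mem_nil _⟩⟩⟩⟩⟩⟩⟩⟩⟩⟩⟩⟩⟩⟩⟩⟩⟩⟩⟩⟩⟩⟩⟩⟩⟩⟩⟩⟩⟩⟩⟩⟩⟩⟩⟩⟩⟩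

theorem cover (g : Suz) : ∃ i : Fin 37, ∃ b ∈ A, ψ g =
    b * ψ (el ((nA i).map lt7) * el ((nB i).map lt7) * (el ((nA i).map lt7))⁻¹ * (el ((nB i).map lt7))⁻¹) * b⁻¹ := by
  obtain ⟨y, hy, b, hb, h⟩ := words_cover g
  obtain ⟨i, h1, h2⟩ := W_words y hy
  rw [h1, h2, List.map_congr_left fun x _ => gn_eq x, List.map_congr_left fun x _ => gn_eq x] at h
  exact ⟨i, b, hb, h⟩

theorem inv4_Suz : Inv4 Suz := by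
  intro g
  obtain ⟨i, b, hb, h⟩ := cover g
  rw [nA_eq, nB_eq] at h
  exact SuzFour.i4_transfer hb h (SuzFourC.i4_rep i)

/-- **the row `Suz` of S4171** -/
theorem four_suz {S : Type*} [Group S] (h : Spor.IsoSuz S) : Inv4 S := by
  obtain ⟨e⟩ := h
  intro g
  obtain ⟨a, b, c, d, ha, hb, hc, hd, hg⟩ := inv4_Suz (e g)
  refine ⟨e.symm a, e.symm b, e.symm c, e.symm d, ?_, ?_, ?_, ?_, ?_⟩
  · rw [← map_mul, ha, map_one]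
  · rw [← map_mul, hb, map_one]
  · rw [← map_mul, hc, map_one]
  · rw [← map_mul, hd, map_one]
  · rw [← map_mul, ← map_mul, ← map_mul, ← hg, e.symm_apply_apply]

theorem q_Suz (g : Suz) : SuzPw.Q 13 g ∧ SuzPw.Q 11 g := by
  obtain ⟨i, b, hb, h⟩ := cover g
  exact ⟨SuzPw.q_transfer hb h (SuzPw.q13 i), SuzPw.q_transfer hb h (SuzPw.q11 i)⟩

open Cfsg.Agent.H78.Pw in
theorem pw_Suz : Pw Suz := by
  have key : ∀ (q n : ℕ), q.Coprime n → (∀ g : Suz, SuzPw.Q q g) → All n Suz := by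
    intro q n hq hQ
    refine All.of_two_pgroup hq fun g => ?_
    obtain ⟨x, y, e, hx, hy⟩ := hQ g
    exact ⟨x, y, e, ⟨1, by rwa [pow_one]⟩, 1, by rwa [pow_one]⟩
  refine ⟨key 13 6 (by decide) fun g => (q_Suz g).1, fun p hp h5 => ?_⟩
  by_cases h : p = 13
  · subst h
    exact key 11 13 (by decide) fun g => (q_Suz g).2
  · refine key 13 p ?_ fun g => (q_Suz g).1
    exact (Nat.coprime_primes (by norm_num) hp).2 (Ne.symm h)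

/-- **the row `Suz` of S2465** -/
theorem pw_suz {S : Type*} [Group S] (h : Spor.IsoSuz S) : Cfsg.Agent.H78.Pw.Pw S := by
  obtain ⟨e⟩ := h
  exact pw_Suz.congr e.symm

/-- **the row `Suz` of S2453** -/
theorem sq_suz {S : Type*} [Group S] (h : Spor.IsoSuz S) : Cfsg.Agent.H134.Sq.AllP 2 S := by
  intro g
  obtain ⟨a, b, e⟩ := (pw_suz h).pow (m := 2) (Or.inl (Nat.prime_two.isPrimePow)) g
  exact ⟨a, b, e⟩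

end Cfsg.Agent.H763.Ore.SuzFin
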