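import Cfsg.Agent.H763.Ore.SuzModel
import Cfsg.Agent.SuzThree.Basic
import Cfsg.Agent.H777.Ore.Base

/-!
# S4171, the Suzuki group: tools for products of four involutions (helper763)
-/

set_option autoImplicit false
set_option maxRecDepth 100000
set_option exponentiation.threshold 5000

namespace Cfsg.Agent.H763.Ore.SuzFour

open Cfsg.Spor Cfsg.Agent.OddHalf.Table.SuzRep Cfsg.Agent.H763.Ore.SuzModel
open Cfsg.Agent.SporadicRecognition.SuzOrder (el)
open Cfsg.Agent.SuzThree.Basic (el_append el_reverse t5 eq_one_of_t5)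
open Cfsg.Agent.SporadicRecognition.SuzPhi (wd)
open Cfsg.Agent.H777.Ore

/-- transfer along an automorphism induced by `A` -/
theorem i4_transfer {g s : Suz} {a : Equiv.Perm (Fin 1782)} (ha : a ∈ A) (h : ψ g = a * ψ s * a⁻¹) (hs : I4 s) : I4 g := by
  obtain ⟨t1, t2, t3, t4, h1, h2, h3, h4, rfl⟩ := hs
  have key : ∀ t : Suz, t * t = 1 → ∃ u : Suz, u * u = 1 ∧ ψ u = a * ψ t * a⁻¹ := by
    intro t ht
    obtain ⟨u, hu⟩ := A_conj ha (⟨t, rfl⟩ : ψ t ∈ N)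
    refine ⟨u, ψ_injective ?_, hu⟩
    have h5 : ψ t * ψ t = 1 := by rw [← map_mul, ht, map_one]
    rw [map_mul, hu, map_one]
    calc a * ψ t * a⁻¹ * (a * ψ t * a⁻¹) = a * (ψ t * ψ t) * a⁻¹ := by group
      _ = 1 := by rw [h5]; group
  obtain ⟨u1, k1, e1⟩ := key t1 h1
  obtain ⟨u2, k2, e2⟩ := key t2 h2
  obtain ⟨u3, k3, e3⟩ := key t3 h3
  obtain ⟨u4, k4, e4⟩ := key t4 h4
  refine ⟨u1, u2, u3, u4, k1, k2, k3, k4, ψ_injective ?_⟩
  rw [h]
  simp only [map_mul, e1, e2, e3, e4]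
  group

theorem isC_transfer {g s : Suz} {a : Equiv.Perm (Fin 1782)} (ha : a ∈ A) (h : ψ g = a * ψ s * a⁻¹) (hs : IsC s) : IsC g := by
  obtain ⟨x, y, rfl⟩ := hs
  obtain ⟨u, hu⟩ := A_conj ha (⟨x, rfl⟩ : ψ x ∈ N)
  obtain ⟨v, hv⟩ := A_conj ha (⟨y, rfl⟩ : ψ y ∈ N)
  refine ⟨u, v, ψ_injective ?_⟩
  rw [h]
  simp only [map_mul, map_inv, hu, hv]
  group

/-- the word is its own reverse -/
def pal (w : List Suz.Gen) : Bool := decide (w.reverse = w)

theorem sq_of_pal {w : List Suz.Gen} (h : pal w = true) : el w * el w = 1 := by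
  have h1 : w.reverse = w := of_decide_eq_true h
  have h2 := el_reverse w
  rw [h1] at h2
  nth_rewrite 1 [h2]
  exact inv_mul_cancel _

/-- the certificate of `I4 (el r)` -/
noncomputable def cert4 (r w1 w2 w3 w4 : List Suz.Gen) : Bool :=
  and (and (and (pal w1) (pal w2)) (and (pal w3) (pal w4))) (t5 (wd (w1 ++ (w2 ++ (w3 ++ (w4 ++ r.reverse))))))

theorem i4_of_cert {r w1 w2 w3 w4 : List Suz.Gen} (h : cert4 r w1 w2 w3 w4 = true) : I4 (el r) := by
  simp only [cert4, Bool.and_eq_true] at h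
  obtain ⟨⟨⟨h1, h2⟩, ⟨h3, h4⟩⟩, h5⟩ := h
  refine ⟨el w1, el w2, el w3, el w4, sq_of_pal h1, sq_of_pal h2, sq_of_pal h3, sq_of_pal h4, ?_⟩
  have h6 := eq_one_of_t5 (Cfsg.Agent.SuzThree.Basic.Rep.el _) h5
  rw [el_append, el_append, el_append, el_append, el_reverse] at h6
  rw [← inv_inv (el r), eq_comm, ← mul_eq_one_iff_eq_inv, ← h6]
  group

end Cfsg.Agent.H763.Ore.SuzFour
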