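import Cfsg.Agent.H763.Ore.SuzFour

/-!
# S4171, the Suzuki group: the representatives of helper123 are products of four involutions (helper763)
-/

set_option autoImplicit false
set_option maxRecDepth 100000
set_option exponentiation.threshold 5000

namespace Cfsg.Agent.H763.Ore.SuzFourC

open Cfsg.Spor Cfsg.Agent.H763.Ore.SuzFour Cfsg.Agent.H777.Ore
open Cfsg.Agent.SporadicRecognition.SuzOrder (el)
open Cfsg.Agent.SuzThree.Basic (el_append el_reverse)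

/-- the certificate of a commutator -/
theorem i4_comm {A B w1 w2 w3 w4 : List Suz.Gen}
    (h : cert4 (A ++ (B ++ (A.reverse ++ B.reverse))) w1 w2 w3 w4 = true) : I4 (el A * el B * (el A)⁻¹ * (el B)⁻¹) := by
  have h1 := i4_of_cert h
  rw [el_append, el_append, el_append, el_reverse, el_reverse] at h1
  rwa [mul_assoc, mul_assoc]

/-- the two words of the `i`-th representative -/
def wA : ℕ → List Suz.Gen
  | 0 => [.f]
  | 1 => [.a]
  | 2 => [.e, .c, .b, .g, .d, .c]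
  | 3 => [.c]
  | 4 => [.c]
  | 5 => [.b, .d, .g, .f, .b]
  | 6 => [.b]
  | 7 => [.b, .e]
  | 8 => [.f, .e, .g, .c]
  | 9 => [.f, .b, .d]
  | 10 => [.b, .a, .d, .b, .f, .g]
  | 11 => [.e, .g, .f]
  | 12 => [.b, .e]
  | 13 => [.e, .a]
  | 14 => [.b]
  | 15 => [.c, .e, .b, .a]
  | 16 => [.b, .c, .e]
  | 17 => [.c, .b]
  | 18 => [.c, .e, .g]
  | 19 => [.c, .d, .g, .e, .c, .f]
  | 20 => [.g, .f, .d]
  | 21 => [.e, .c, .b]
  | 22 => [.d, .c, .a, .b]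
  | 23 => [.e, .d, .a, .c, .b, .g, .a]
  | 24 => [.c, .b, .f]
  | 25 => [.d, .c, .b]
  | 26 => [.d, .b]
  | 27 => [.d, .a, .b, .c, .g, .f]
  | 28 => [.e, .c]
  | 29 => [.b, .g]
  | 30 => [.f, .b, .c, .d]
  | 31 => [.d]
  | 32 => [.f, .d, .b, .g]
  | 33 => [.b, .g]
  | 34 => [.b, .d]
  | 35 => [.d]
  | 36 => [.d]
  | _ => []

@[inherit_doc wA] def wB : ℕ → List Suz.Gen
  | 0 => [.g]
  | 1 => [.a]
  | 2 => [.b, .d]
  | 3 => [.d, .c, .b, .g, .f, .b]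
  | 4 => [.b, .g, .f, .d, .b]
  | 5 => [.e, .c]
  | 6 => [.c]
  | 7 => [.d, .g, .c]
  | 8 => [.b, .c, .d]
  | 9 => [.c, .e, .g, .b]
  | 10 => [.c, .e, .b]
  | 11 => [.b, .c, .d]
  | 12 => [.c, .d]
  | 13 => [.d, .b]
  | 14 => [.a]
  | 15 => [.d, .b, .g]
  | 16 => [.d, .f]
  | 17 => [.g, .d]
  | 18 => [.d, .b]
  | 19 => [.d, .b]
  | 20 => [.c, .b]
  | 21 => [.g, .d, .f]
  | 22 => [.a, .e, .g, .b, .f]
  | 23 => [.d, .g, .b, .c, .f, .e]
  | 24 => [.d, .b, .a]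
  | 25 => [.e, .a]
  | 26 => [.g, .f, .b, .c]
  | 27 => [.e, .b]
  | 28 => [.d]
  | 29 => [.f, .b, .c]
  | 30 => [.a, .e, .b]
  | 31 => [.c, .b, .e, .g, .b, .f, .b, .c]
  | 32 => [.b, .c]
  | 33 => [.f, .c]
  | 34 => [.e, .c, .a]
  | 35 => [.c]
  | 36 => [.e]
  | _ => []

theorem c0 : cert4 (wA 0 ++ (wB 0 ++ ((wA 0).reverse ++ (wB 0).reverse)))
    [.f]
    [.d, .f, .d, .g, .f, .g, .d, .f, .d]
    []
    [] = true := by decide +kernel
theorem c1 : cert4 (wA 1 ++ (wB 1 ++ ((wA 1).reverse ++ (wB 1).reverse)))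
    []
    []
    []
    [] = true := by decide +kernel
theorem c2 : cert4 (wA 2 ++ (wB 2 ++ ((wA 2).reverse ++ (wB 2).reverse)))
    [.c, .f, .b, .g, .a, .f, .b, .e, .c, .d, .b, .c, .f, .e, .f, .d, .f, .e, .f, .c, .b, .d, .c, .e, .b, .f, .a, .g, .b, .f, .c]
    [.c, .f, .b, .g, .a, .f, .b, .e, .c, .f, .g, .d, .b, .c, .d, .c, .b, .d, .g, .f, .c, .e, .b, .f, .a, .g, .b, .f, .c]
    [.c, .f, .b, .g, .a, .f, .b, .e, .c, .d, .c, .g, .b, .d, .g, .c, .f, .c, .g, .d, .b, .g, .c, .d, .c, .e, .b, .f, .a, .g, .b, .f, .c]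
    [] = true := by decide +kernel
theorem c3 : cert4 (wA 3 ++ (wB 3 ++ ((wA 3).reverse ++ (wB 3).reverse)))
    [.c, .d, .c, .b, .g, .c, .f, .e, .b, .e, .f, .c, .g, .b, .c, .d, .c]
    [.c]
    []
    [] = true := by decide +kernel
theorem c4 : cert4 (wA 4 ++ (wB 4 ++ ((wA 4).reverse ++ (wB 4).reverse)))
    [.c, .a, .c, .a, .c]
    [.b, .d, .c, .d, .g, .b, .f, .b, .g, .d, .c, .d, .b]
    []
    [] = true := by decide +kernel
theorem c5 : cert4 (wA 5 ++ (wB 5 ++ ((wA 5).reverse ++ (wB 5).reverse)))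
    [.b, .d, .g, .c, .f, .d, .b, .d, .f, .c, .g, .d, .b]
    [.b, .g, .d, .g, .b]
    [.b, .g, .d, .e, .d, .g, .b]
    [.f, .c, .f] = true := by decide +kernel
theorem c6 : cert4 (wA 6 ++ (wB 6 ++ ((wA 6).reverse ++ (wB 6).reverse)))
    [.f, .b, .f, .c, .d, .b, .f, .b, .d, .c, .f, .b, .f]
    [.f, .b, .f, .c, .f, .c, .f, .b, .f]
    []
    [] = true := by decide +kernel
theorem c7 : cert4 (wA 7 ++ (wB 7 ++ ((wA 7).reverse ++ (wB 7).reverse)))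
    [.e, .f, .b, .a, .d, .c, .b, .c, .f, .g, .b, .g, .f, .c, .b, .c, .d, .a, .b, .f, .e]
    [.e, .f, .b, .a, .g, .a, .e, .a, .g, .a, .b, .f, .e]
    [.e, .f, .b, .a, .d, .a, .b, .f, .e]
    [] = true := by decide +kernel
theorem c8 : cert4 (wA 8 ++ (wB 8 ++ ((wA 8).reverse ++ (wB 8).reverse)))
    [.g, .a, .f, .b, .c, .f, .c, .f, .c, .b, .f, .a, .g]
    [.b]
    [.e, .d, .e]
    [.b, .c, .d, .c, .b] = true := by decide +kernel
theorem c9 : cert4 (wA 9 ++ (wB 9 ++ ((wA 9).reverse ++ (wB 9).reverse)))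
    [.f, .d, .b, .d, .f]
    [.e, .d, .e, .d, .e]
    [.e, .g, .e, .a, .b, .c, .b, .a, .e, .g, .e]
    [.e, .a, .d, .c, .d, .c, .d, .a, .e] = true := by decide +kernel
theorem c10 : cert4 (wA 10 ++ (wB 10 ++ ((wA 10).reverse ++ (wB 10).reverse)))
    [.c, .b, .c, .d, .b, .c, .a, .d, .a, .c, .b, .d, .c, .b, .c]
    [.c, .b, .g, .e, .d, .e, .g, .b, .c]
    [.c, .b, .g, .b, .a, .b, .g, .b, .c]
    [.c, .b, .g, .f, .g, .b, .c] = true := by decide +kernel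
theorem c11 : cert4 (wA 11 ++ (wB 11 ++ ((wA 11).reverse ++ (wB 11).reverse)))
    [.b, .d, .a, .b, .f, .g, .b, .c, .e, .a, .f, .b, .g, .c, .d, .e, .d, .c, .g, .b, .f, .a, .e, .c, .b, .g, .f, .b, .a, .d, .b]
    [.b, .d, .a, .b, .f, .g, .b, .c, .e, .d, .c, .d, .c, .d, .e, .c, .b, .g, .f, .b, .a, .d, .b]
    [.b, .d, .a, .b, .f, .g, .b, .c, .e, .c, .g, .b, .g, .c, .e, .c, .b, .g, .f, .b, .a, .d, .b]
    [] = true := by decide +kernel
theorem c12 : cert4 (wA 12 ++ (wB 12 ++ ((wA 12).reverse ++ (wB 12).reverse)))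
    [.c, .b, .a, .b, .a, .d, .a, .b, .d, .c, .d, .b, .a, .d, .a, .b, .a, .b, .c]
    [.c, .b, .a, .b, .a, .b, .e, .d, .e, .b, .a, .b, .a, .b, .c]
    [.c, .b, .a, .b, .a, .b, .c, .d, .c, .d, .c, .d, .c, .b, .a, .b, .a, .b, .c]
    [] = true := by decide +kernel
theorem c13 : cert4 (wA 13 ++ (wB 13 ++ ((wA 13).reverse ++ (wB 13).reverse)))
    [.e, .a, .b, .a, .b, .a, .e]
    [.e]
    [.e, .a, .c, .d, .g, .c, .d, .c, .g, .d, .c, .a, .e]
    [] = true := by decide +kernel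
theorem c14 : cert4 (wA 14 ++ (wB 14 ++ ((wA 14).reverse ++ (wB 14).reverse)))
    [.a]
    [.a, .e, .d, .b, .g, .a, .g, .b, .d, .e, .a]
    []
    [] = true := by decide +kernel
theorem c15 : cert4 (wA 15 ++ (wB 15 ++ ((wA 15).reverse ++ (wB 15).reverse)))
    [.c, .e, .a, .g, .b, .d, .b, .g, .a, .e, .c]
    [.c, .e, .a, .g, .b, .c, .g, .d, .b, .a, .b, .d, .g, .c, .b, .g, .a, .e, .c]
    [.c, .e, .a, .g, .b, .c, .e, .d, .b, .c, .d, .c, .b, .d, .e, .c, .b, .g, .a, .e, .c]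
    [] = true := by decide +kernel
theorem c16 : cert4 (wA 16 ++ (wB 16 ++ ((wA 16).reverse ++ (wB 16).reverse)))
    [.b]
    [.c, .e, .a, .d, .a, .e, .c]
    [.b, .c, .f, .c, .b]
    [.d] = true := by decide +kernel
theorem c17 : cert4 (wA 17 ++ (wB 17 ++ ((wA 17).reverse ++ (wB 17).reverse)))
    [.b, .g, .c, .e, .b, .e, .c, .g, .b]
    [.b, .g, .c, .b, .a, .b, .a, .c, .d, .c, .a, .b, .a, .b, .c, .g, .b]
    [.b, .g, .c, .b, .a, .b, .c, .g, .b, .c, .d, .c, .b, .g, .c, .b, .a, .b, .c, .g, .b]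
    [] = true := by decide +kernel
theorem c18 : cert4 (wA 18 ++ (wB 18 ++ ((wA 18).reverse ++ (wB 18).reverse)))
    [.c, .d, .b, .g, .e, .g, .b, .d, .c]
    [.c, .b, .g, .b, .c]
    [.d, .f, .d, .f, .d]
    [.e, .b, .e] = true := by decide +kernel
theorem c19 : cert4 (wA 19 ++ (wB 19 ++ ((wA 19).reverse ++ (wB 19).reverse)))
    [.b, .c, .g, .c, .a, .f, .a, .d, .a, .f, .a, .c, .g, .c, .b]
    [.b]
    [.b, .c, .d, .c, .f, .b, .g, .b, .f, .c, .d, .c, .b]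
    [.b, .c, .d, .e, .d, .c, .b] = true := by decide +kernel
theorem c20 : cert4 (wA 20 ++ (wB 20 ++ ((wA 20).reverse ++ (wB 20).reverse)))
    [.f, .a, .c, .b, .d, .b, .c, .b, .d, .b, .c, .b, .d, .b, .c, .a, .f]
    [.f, .a, .c, .b, .d, .c, .d, .c, .d, .c, .d, .c, .d, .b, .c, .a, .f]
    [.f, .a, .c, .b, .d, .e, .f, .g, .b, .g, .f, .e, .d, .b, .c, .a, .f]
    [] = true := by decide +kernel
theorem c21 : cert4 (wA 21 ++ (wB 21 ++ ((wA 21).reverse ++ (wB 21).reverse)))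
    [.b, .f, .g, .c, .g, .f, .b]
    [.a, .c, .d, .b, .e, .b, .d, .c, .a]
    [.g, .f, .b, .c, .b, .f, .g]
    [.e, .d, .e, .d, .e] = true := by decide +kernel
theorem c22 : cert4 (wA 22 ++ (wB 22 ++ ((wA 22).reverse ++ (wB 22).reverse)))
    [.g, .a, .b, .f, .a, .b, .a, .d, .a, .b, .a, .f, .b, .a, .g]
    [.g, .a, .b, .f, .a, .b, .c, .g, .b, .e, .c, .a, .e, .b, .e, .a, .c, .e, .b, .g, .c, .b, .a, .f, .b, .a, .g]
    [.g, .a, .b, .f, .a, .b, .c, .d, .a, .f, .b, .f, .a, .d, .c, .b, .a, .f, .b, .a, .g]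
    [.g, .a, .b, .f, .a, .b, .c, .e, .c, .d, .c, .e, .c, .b, .a, .f, .b, .a, .g] = true := by decide +kernel
theorem c23 : cert4 (wA 23 ++ (wB 23 ++ ((wA 23).reverse ++ (wB 23).reverse)))
    [.a, .d, .e, .g, .b, .a, .b, .a, .c, .d, .c, .b, .a, .b, .c, .d, .g, .d, .g, .d, .c, .b, .a, .b, .c, .d, .c, .a, .b, .a, .b, .g, .e, .d, .a]
    [.a, .d, .e, .g, .b, .a, .b, .a, .c, .d, .c, .b, .a, .b, .c, .d, .g, .c, .g, .d, .g, .c, .g, .d, .c, .b, .a, .b, .c, .d, .c, .a, .b, .a, .b, .g, .e, .d, .a]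
    [.a, .d, .e, .g, .b, .a, .b, .a, .c, .d, .c, .b, .a, .b, .c, .d, .g, .b, .f, .g, .f, .b, .g, .d, .c, .b, .a, .b, .c, .d, .c, .a, .b, .a, .b, .g, .e, .d, .a]
    [.a, .d, .e, .g, .b, .a, .b, .a, .c, .d, .c, .b, .a, .b, .c, .d, .e, .d, .f, .c, .b, .c, .f, .d, .e, .d, .c, .b, .a, .b, .c, .d, .c, .a, .b, .a, .b, .g, .e, .d, .a] = true := by decide +kernel
theorem c24 : cert4 (wA 24 ++ (wB 24 ++ ((wA 24).reverse ++ (wB 24).reverse)))
    [.b, .f, .b, .e, .c, .g, .c, .g, .c, .e, .b, .f, .b]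
    [.b, .f, .b, .c, .a, .b, .a, .c, .b, .f, .b, .c, .a, .b, .a, .c, .b, .f, .b]
    [.b, .c, .d, .c, .d, .c, .b]
    [] = true := by decide +kernel
theorem c25 : cert4 (wA 25 ++ (wB 25 ++ ((wA 25).reverse ++ (wB 25).reverse)))
    [.d, .c, .e, .d, .c, .b, .e, .c, .b, .d, .c, .d, .c, .d, .b, .c, .e, .b, .c, .d, .e, .c, .d]
    [.d, .c, .e, .d, .c, .d, .c, .d, .e, .c, .d]
    []
    [] = true := by decide +kernel
theorem c26 : cert4 (wA 26 ++ (wB 26 ++ ((wA 26).reverse ++ (wB 26).reverse)))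
    [.g, .b, .c, .a, .b, .f, .c, .b, .g, .c, .b, .a, .b, .f, .c, .f, .b, .a, .b, .c, .g, .b, .c, .f, .b, .a, .c, .b, .g]
    [.g, .b, .c, .a, .b, .f, .c, .b, .g, .c, .b, .d, .g, .f, .b, .a, .b, .f, .g, .d, .b, .c, .g, .b, .c, .f, .b, .a, .c, .b, .g]
    [.g, .b, .c, .a, .b, .f, .c, .b, .g, .c, .d, .c, .d, .c, .g, .b, .c, .f, .b, .a, .c, .b, .g]
    [] = true := by decide +kernel
theorem c27 : cert4 (wA 27 ++ (wB 27 ++ ((wA 27).reverse ++ (wB 27).reverse)))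
    [.f, .b, .e, .d, .c, .e, .c, .d, .e, .b, .f]
    [.f, .b, .e, .c, .g, .b, .f, .g, .c, .b, .c, .g, .f, .b, .g, .c, .e, .b, .f]
    [.f, .b, .e, .c, .g, .d, .c, .f, .d, .f, .c, .d, .g, .c, .e, .b, .f]
    [] = true := by decide +kernel
theorem c28 : cert4 (wA 28 ++ (wB 28 ++ ((wA 28).reverse ++ (wB 28).reverse)))
    [.c, .e, .d, .e, .c]
    [.a, .d, .b, .a, .d, .a, .b, .d, .a]
    []
    [] = true := by decide +kernel
theorem c29 : cert4 (wA 29 ++ (wB 29 ++ ((wA 29).reverse ++ (wB 29).reverse)))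
    [.a, .f, .g, .b, .e, .f, .g, .f, .e, .b, .g, .f, .a]
    [.a, .b, .a]
    [.a, .g, .c, .g, .a]
    [] = true := by decide +kernel
theorem c30 : cert4 (wA 30 ++ (wB 30 ++ ((wA 30).reverse ++ (wB 30).reverse)))
    [.c, .a, .f, .b, .c, .f, .a, .b, .c, .a, .b, .g, .e, .f, .e, .g, .b, .a, .c, .b, .a, .f, .c, .b, .f, .a, .c]
    [.c, .a, .f, .b, .c, .f, .a, .b, .e, .b, .a, .f, .c, .b, .f, .a, .c]
    [.c, .a, .f, .b, .c, .f, .a, .b, .c, .d, .c, .d, .c, .d, .c, .b, .a, .f, .c, .b, .f, .a, .c]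
    [] = true := by decide +kernel
theorem c31 : cert4 (wA 31 ++ (wB 31 ++ ((wA 31).reverse ++ (wB 31).reverse)))
    [.c, .e, .b, .g, .f, .b, .c, .d, .c, .b, .f, .g, .b, .e, .c]
    [.c, .e, .c, .g, .e, .d, .e, .g, .c, .e, .c]
    []
    [] = true := by decide +kernel
theorem c32 : cert4 (wA 32 ++ (wB 32 ++ ((wA 32).reverse ++ (wB 32).reverse)))
    [.b, .f, .g, .b, .a, .b, .g, .f, .d, .c, .b, .a, .b, .c, .d, .f, .g, .b, .a, .b, .g, .f, .b]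
    [.b, .f, .g, .b, .a, .b, .a, .b, .f, .b, .a, .b, .a, .b, .g, .f, .b]
    [.b, .f, .g, .b, .a, .b, .a, .b, .c, .b, .a, .b, .c, .b, .a, .b, .a, .b, .g, .f, .b]
    [] = true := by decide +kernel
theorem c33 : cert4 (wA 33 ++ (wB 33 ++ ((wA 33).reverse ++ (wB 33).reverse)))
    [.b, .g, .b, .a, .b, .a, .b, .a, .b, .a, .b, .g, .b]
    [.b, .g, .b, .a, .b, .c, .g, .b, .g, .f, .g, .b, .g, .c, .b, .a, .b, .g, .b]
    []
    [] = true := by decide +kernel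
theorem c34 : cert4 (wA 34 ++ (wB 34 ++ ((wA 34).reverse ++ (wB 34).reverse)))
    [.a, .b, .a, .b, .a, .c, .a, .d, .c, .b, .d, .b, .c, .d, .a, .c, .a, .b, .a, .b, .a]
    [.a, .b, .a, .b, .a, .c, .b, .e, .a, .b, .d, .c, .a, .d, .a, .c, .d, .b, .a, .e, .b, .c, .a, .b, .a, .b, .a]
    []
    [] = true := by decide +kernel
theorem c35 : cert4 (wA 35 ++ (wB 35 ++ ((wA 35).reverse ++ (wB 35).reverse)))
    [.d, .g, .c, .d, .e, .a, .c, .a, .e, .d, .c, .g, .d]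
    [.d, .c, .d]
    []
    [] = true := by decide +kernel
theorem c36 : cert4 (wA 36 ++ (wB 36 ++ ((wA 36).reverse ++ (wB 36).reverse)))
    [.e]
    [.a, .d, .a]
    []
    [] = true := by decide +kernel

theorem i4_rep (i : Fin 37) : I4 (el (wA i) * el (wB i) * (el (wA i))⁻¹ * (el (wB i))⁻¹) := by
  fin_cases i
  · exact i4_comm c0
  · exact i4_comm c1
  · exact i4_comm c2
  · exact i4_comm c3
  · exact i4_comm c4
  · exact i4_comm c5
  · exact i4_comm c6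
  · exact i4_comm c7
  · exact i4_comm c8
  · exact i4_comm c9
  · exact i4_comm c10
  · exact i4_comm c11
  · exact i4_comm c12
  · exact i4_comm c13
  · exact i4_comm c14
  · exact i4_comm c15
  · exact i4_comm c16
  · exact i4_comm c17
  · exact i4_comm c18
  · exact i4_comm c19
  · exact i4_comm c20
  · exact i4_comm c21
  · exact i4_comm c22
  · exact i4_comm c23
  · exact i4_comm c24
  · exact i4_comm c25
  · exact i4_comm c26
  · exact i4_comm c27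
  · exact i4_comm c28
  · exact i4_comm c29
  · exact i4_comm c30
  · exact i4_comm c31
  · exact i4_comm c32
  · exact i4_comm c33
  · exact i4_comm c34
  · exact i4_comm c35
  · exact i4_comm c36

end Cfsg.Agent.H763.Ore.SuzFourC
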