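import Cfsg.Agent.OddHalf.Table.OutSuz

/-!
# S2443 / S4171, the Suzuki group: the group `A = Suz:2` on the 1782 points (helper763)

`N = ψ(Suz)`, `A = N ⟨T⟩` where `T` is the odd involution of the graph.
-/

set_option autoImplicit false
set_option maxRecDepth 100000
set_option exponentiation.threshold 5000

namespace Cfsg.Agent.H763.Ore.SuzModel

open Cfsg.Spor Cfsg.Agent.Lib Cfsg.Agent.Lib.BitNet Cfsg.Agent.Lib.BitNetSimple
  Cfsg.Agent.SporadicRecognition.SuzOrder Cfsg.Agent.OddHalf.Table.SuzNets Cfsg.Agent.OddHalf.Table.SuzGraph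
  Cfsg.Agent.OddHalf.Table.SuzRep Cfsg.Agent.OddHalf.Table.OutSuz
open Cfsg.Agent.Lib.PermNet (Net WOk wperm checkEq testBit_app wperm_eq_of_checkEq wperm_cons wperm_nil)

/-- the image of `Suz` -/
noncomputable def N : Subgroup (Equiv.Perm (Fin 1782)) := ψ.range

theorem card_N : Nat.card N = 448345497600 := by
  rw [← card_Suz]
  exact Nat.card_congr (MonoidHom.ofInjective ψ_injective).toEquiv.symm

theorem TY : T * Y = Y * T := comm_of_check okT okY oT oY (by decide +kernel)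

/-- `T W = R⁶ W T` -/
theorem TW : T * W = R ^ 6 * W * T := by
  have h : checkEq 11 [pn nT, pn nW] [pn nR, pn nR, pn nR, pn nR, pn nR, pn nR, pn nW, pn nT] = true := by decide +kernel
  have hR : ∀ {l : List Net}, WOk (2 ^ 11) l → WOk (2 ^ 11) (pn nR :: l) := fun h => WOk.cons oR h
  have h1 := wperm_eq_of_checkEq (WOk.cons oT (WOk.cons oW (WOk.nil _)))
    (hR (hR (hR (hR (hR (hR (WOk.cons oW (WOk.cons oT (WOk.nil _)))))))))  h
  simp only [wperm_cons, wperm_nil, mul_one] at h1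
  ext i
  have h2 : ((pn nT).perm * (pn nW).perm) i = ((pn nR).perm * ((pn nR).perm * ((pn nR).perm * ((pn nR).perm *
    ((pn nR).perm * ((pn nR).perm * ((pn nW).perm * (pn nT).perm))))))) i := by rw [h1]
  simp only [Equiv.Perm.mul_apply, pn_perm okT oT, pn_perm okW oW, pn_perm okR oR] at h2
  simp only [pow_succ, pow_zero, one_mul, Equiv.Perm.mul_apply]
  exact h2

theorem T_inv : T⁻¹ = T := by
  rw [inv_eq_iff_mul_eq_one, ← pow_two]
  exact T_sq

theorem T_conj_gen (g : Suz) : T * ψ g * T⁻¹ ∈ N := by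
  have h : K ≤ (N.comap (MulAut.conj T).toMonoidHom).comap ψ := by
    unfold K
    rw [Subgroup.closure_le]
    rintro s (rfl | rfl | rfl | rfl)
    · change T * ψ w * T⁻¹ ∈ N
      rw [ψ_w, TW, mul_inv_cancel_right]
      exact N.mul_mem (N.pow_mem ⟨r, ψ_r⟩ 6) ⟨w, ψ_w⟩
    · change T * ψ x * T⁻¹ ∈ N
      rw [ψ_x, TX, mul_inv_cancel_right]
      exact ⟨x, ψ_x⟩
    · change T * ψ f * T⁻¹ ∈ N
      rw [ψ_f, TF, mul_inv_cancel_right]
      exact ⟨f, ψ_f⟩
    · change T * ψ y * T⁻¹ ∈ N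
      rw [ψ_y, TY, mul_inv_cancel_right]
      exact ⟨y, ψ_y⟩
  exact h (K_eq_top ▸ Subgroup.mem_top g)

theorem T_conj {n : Equiv.Perm (Fin 1782)} (hn : n ∈ N) : T * n * T⁻¹ ∈ N := by
  obtain ⟨g, rfl⟩ := hn
  exact T_conj_gen g

theorem T_notMem : T ∉ N := by
  rintro ⟨g, hg⟩
  exact sign_ne hg sign_T

/-- `Suz:2` -/
noncomputable def A : Subgroup (Equiv.Perm (Fin 1782)) := N ⊔ Subgroup.zpowers T

theorem N_le_A : N ≤ A := le_sup_left

theorem T_mem_A : T ∈ A := Subgroup.mem_sup_right (Subgroup.mem_zpowers _)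

theorem A_le : A ≤ Aut 1782 row := by
  refine sup_le ?_ ?_
  · rintro _ ⟨g, rfl⟩
    exact ψ_mem g
  · rw [Subgroup.zpowers_le]
    exact memT

theorem A_conj {a n : Equiv.Perm (Fin 1782)} (ha : a ∈ A) (hn : n ∈ N) : a * n * a⁻¹ ∈ N := by
  have h : A ≤ Subgroup.normalizer (N : Set (Equiv.Perm (Fin 1782))) := by
    refine sup_le Subgroup.le_normalizer ?_
    rw [Subgroup.zpowers_le, Subgroup.mem_normalizer_iff]
    intro g
    refine ⟨fun hg => T_conj hg, fun hg => ?_⟩
    have h1 := T_conj hg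
    rw [T_inv] at h1
    have h2 : T * T = 1 := by rw [← pow_two]; exact T_sq
    have h3 : T * (T * g * T) * T = g := by
      calc T * (T * g * T) * T = (T * T) * g * (T * T) := by group
        _ = g := by rw [h2]; group
    rwa [h3] at h1
  exact (Subgroup.mem_normalizer_iff.1 (h ha) n).1 hn

theorem card_A : 2 * 448345497600 ≤ Nat.card A := by
  have h1 : Nat.card N ∣ Nat.card A := Subgroup.card_dvd_of_le N_le_A
  obtain ⟨k, hk⟩ := h1
  have h0 : 0 < Nat.card A := Nat.card_pos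
  have h2 : k ≠ 0 := by
    rintro rfl
    omega
  have h3 : k ≠ 1 := by
    rintro rfl
    apply T_notMem
    have h4 : N = A := Subgroup.eq_of_le_of_card_ge N_le_A (by rw [hk, mul_one])
    rw [h4]
    exact T_mem_A
  rw [hk, card_N, mul_comm]
  exact Nat.mul_le_mul_left _ (by omega)

end Cfsg.Agent.H763.Ore.SuzModel
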