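import Cfsg.Agent.H763.Ore.SuzFin

/-!
# The Suzuki group: the centralizer of an element of order 6 has order at most 6912 (helper763)

`cent_six` : `v` of order 2, `w` of order 3 commuting: `|C(v) ⊓ C(w)| ≤ 43466`.
-/

set_option autoImplicit false
set_option maxRecDepth 100000
set_option exponentiation.threshold 5000

namespace Cfsg.Agent.H763.Ore.SuzSix

open Cfsg.Spor Cfsg.Agent.Lib.BitNet Cfsg.Agent.H763.Ore.SuzModel Cfsg.Agent.H763.Ore.SuzWord Cfsg.Agent.H763.Ore.SuzPw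
open Cfsg.Agent.H123.Cls Cfsg.Agent.H123.Cls.SuzDat
open Cfsg.Agent.OddHalf.Table.SuzRep (ψ ψ_injective)
open Cfsg.Agent.SporadicRecognition.SuzOrder (el)
open Cfsg.Agent.SuzThree.Basic (el_append el_reverse)

/-- the `n`-th power of the permutation with table `P` is the identity -/
def Tr (n P : ℕ) : Prop := ∀ r : Equiv.Perm (Fin 1782), (∀ p : Fin 1782, (r p : ℕ) = lk 11 P p) → r ^ n = 1

theorem tr_of {n P : ℕ} {a b : List ℕ} (h : chkC 1782 11 gens P a b = true)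
    (h' : fix5 (a ++ (b ++ (a.reverse ++ b.reverse))) n = true) : Tr n P := by
  intro r hr
  have h1 := SuzDat.comm_tab h
  have h2 := eq_of_tab hr h1
  have h3 := pow_of_fix5 h'
  simp only [List.map_append, List.map_reverse, el_append, el_reverse] at h3
  rw [h2, List.map_congr_left fun x _ => SuzFin.gn_eq x, List.map_congr_left fun x _ => SuzFin.gn_eq x, ← map_pow,
    mul_assoc, mul_assoc, h3, map_one]

theorem t0 : Tr 2 p0 := tr_of cm0 (by decide +kernel)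
theorem t1 : Tr 2 p1 := tr_of cm1 (by decide +kernel)
theorem t4 : Tr 3 p4 := tr_of cm4 (by decide +kernel)
theorem t31 : Tr 2 p31 := tr_of cm31 (by decide +kernel)
theorem t35 : Tr 4 p35 := tr_of cm35 (by decide +kernel)
theorem t36 : Tr 3 p36 := tr_of cm36 (by decide +kernel)

/-- the alternative -/
def Alt (x : ℕ × ℕ × List ℕ) : Prop := x.2.1 ≤ 6911 ∨ Tr 2 x.1 ∨ Tr 3 x.1 ∨ Tr 4 x.1

theorem alt_le {P c : ℕ} {l : List ℕ} (h : Nat.ble c 6911 = true) : Alt (P, c, l) := Or.inl (Nat.le_of_ble_eq_true h)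

theorem D_alt : ∀ x ∈ D, Alt x :=
  List.forall_mem_cons.2 ⟨Or.inr (Or.inl t0), List.forall_mem_cons.2 ⟨Or.inr (Or.inl t1), List.forall_mem_cons.2 ⟨alt_le rfl, 
  List.forall_mem_cons.2 ⟨alt_le rfl, List.forall_mem_cons.2 ⟨Or.inr (Or.inr (Or.inl t4)), List.forall_mem_cons.2 ⟨alt_le rfl, 
  List.forall_mem_cons.2 ⟨alt_le rfl, List.forall_mem_cons.2 ⟨alt_le rfl, List.forall_mem_cons.2 ⟨alt_le rfl, 
  List.forall_mem_cons.2 ⟨alt_le rfl, List.forall_mem_cons.2 ⟨alt_le rfl, List.forall_mem_cons.2 ⟨alt_le rfl, 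
  List.forall_mem_cons.2 ⟨alt_le rfl, List.forall_mem_cons.2 ⟨alt_le rfl, List.forall_mem_cons.2 ⟨alt_le rfl, 
  List.forall_mem_cons.2 ⟨alt_le rfl, List.forall_mem_cons.2 ⟨alt_le rfl, List.forall_mem_cons.2 ⟨alt_le rfl, 
  List.forall_mem_cons.2 ⟨alt_le rfl, List.forall_mem_cons.2 ⟨alt_le rfl, List.forall_mem_cons.2 ⟨alt_le rfl, 
  List.forall_mem_cons.2 ⟨alt_le rfl, List.forall_mem_cons.2 ⟨alt_le rfl, List.forall_mem_cons.2 ⟨alt_le rfl, 
  List.forall_mem_cons.2 ⟨alt_le rfl, List.forall_mem_cons.2 ⟨alt_le rfl, List.forall_mem_cons.2 ⟨alt_le rfl, 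
  List.forall_mem_cons.2 ⟨alt_le rfl, List.forall_mem_cons.2 ⟨alt_le rfl, List.forall_mem_cons.2 ⟨alt_le rfl, 
  List.forall_mem_cons.2 ⟨alt_le rfl, List.forall_mem_cons.2 ⟨Or.inr (Or.inl t31), List.forall_mem_cons.2 ⟨alt_le rfl, 
  List.forall_mem_cons.2 ⟨alt_le rfl, List.forall_mem_cons.2 ⟨alt_le rfl, List.forall_mem_cons.2 ⟨Or.inr (Or.inr (Or.inr t35)), 
  List.forall_mem_cons.2 ⟨Or.inr (Or.inr (Or.inl t36)), List.forall_mem_nil _⟩⟩⟩⟩⟩⟩⟩⟩⟩⟩⟩⟩⟩⟩⟩⟩⟩⟩⟩⟩⟩⟩⟩⟩⟩⟩⟩⟩⟩⟩⟩⟩⟩⟩⟩⟩⟩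

/-- the centralizer of an element whose second, third and fourth powers are not trivial -/
theorem card_le {g : Suz} (h2 : g ^ 2 ≠ 1) (h3 : g ^ 3 ≠ 1) (h4 : g ^ 4 ≠ 1) (K : Subgroup Suz)
    (hK : K ≤ Subgroup.centralizer {g}) : Nat.card K ≤ 6912 := by
  obtain ⟨x, hx, r, -, hr, b, hb, h⟩ := suz_cover (ψ g) ⟨g, rfl⟩
  have hno : ∀ n : ℕ, g ^ n ≠ 1 → ¬ Tr n x.1 := by
    intro n hn ht
    apply hn
    apply ψ_injective
    rw [map_pow, h, conj_pow, ht r hr, map_one]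
    group
  have hle : x.2.1 ≤ 6911 := by
    rcases D_alt x hx with h' | h' | h' | h'
    · exact h'
    · exact absurd h' (hno 2 h2)
    · exact absurd h' (hno 3 h3)
    · exact absurd h' (hno 4 h4)
  obtain ⟨l, L, hB⟩ := D_bd x hx
  let f : Suz →* Equiv.Perm (Fin 1782) := (MulAut.conj b⁻¹).toMonoidHom.comp ψ
  have hf : ∀ u : Suz, f u = b⁻¹ * ψ u * b := fun u => by
    show (MulAut.conj b⁻¹) (ψ u) = _
    rw [MulAut.conj_apply, inv_inv]
  have hinj : Function.Injective f := by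
    intro u v huv
    rw [hf, hf] at huv
    exact ψ_injective (mul_left_cancel (mul_right_cancel huv))
  have hc : Nat.card (K.map f) = Nat.card K := (Nat.card_congr (K.equivMapOfInjective f hinj).toEquiv).symm
  rw [← hc]
  have hA : K.map f ≤ Aut 1782 row := by
    rintro _ ⟨u, hu, rfl⟩
    apply H763.Ore.SuzTab.A_le_Aut
    rw [hf]
    exact A.mul_mem (A.mul_mem (A.inv_mem hb) (N_le_A ⟨u, rfl⟩)) hb
  have hcomm : Comm r (K.map f) := by
    rintro _ ⟨u, hu, rfl⟩ i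
    have h1 : g * u = u * g := (Subgroup.mem_centralizer_singleton_iff.1 (hK hu)).symm
    have hr' : r = b⁻¹ * ψ g * b := by rw [h]; group
    have h5 : f u * r = r * f u := by
      rw [hf, hr']
      calc b⁻¹ * ψ u * b * (b⁻¹ * ψ g * b) = b⁻¹ * (ψ u * ψ g) * b := by group
        _ = b⁻¹ * (ψ g * ψ u) * b := by rw [← map_mul, ← map_mul, h1]
        _ = _ := by group
    exact congrArg (fun τ : Equiv.Perm (Fin 1782) => τ i) h5
  have h6 := card_le_bound (K := 11) (c := x.2.1) (l := l) (L := L) (by norm_num) hr hB hA hcomm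
  omega

/-- **input of the Baby Monster row** -/
theorem cent_six {v w : Suz} (hv : orderOf v = 2) (hw : orderOf w = 3) (hvw : v * w = w * v) :
    Nat.card ↥(Subgroup.centralizer {v} ⊓ Subgroup.centralizer {w} : Subgroup Suz) ≤ 43466 := by
  have h6 : orderOf (v * w) = 6 := by
    rw [(show Commute v w from hvw).orderOf_mul_eq_mul_orderOf_of_coprime (by rw [hv, hw]; norm_num), hv, hw]
  have hne : ∀ n : ℕ, 0 < n → n < 6 → (v * w) ^ n ≠ 1 := fun n h0 hn h => by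
    have h1 := orderOf_le_of_pow_eq_one h0 h
    omega
  refine (card_le (hne 2 (by norm_num) (by norm_num)) (hne 3 (by norm_num) (by norm_num))
    (hne 4 (by norm_num) (by norm_num)) _ ?_).trans (by norm_num)
  intro u hu
  have h1 := Subgroup.mem_centralizer_singleton_iff.1 (Subgroup.mem_inf.1 hu).1
  have h2 := Subgroup.mem_centralizer_singleton_iff.1 (Subgroup.mem_inf.1 hu).2
  rw [Subgroup.mem_centralizer_singleton_iff, ← mul_assoc, h1, mul_assoc, h2, mul_assoc]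

end Cfsg.Agent.H763.Ore.SuzSix
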