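import Cfsg.Agent.H763.Ore.SuzTab
import Cfsg.Agent.H763.Ore.SuzFourC

/-!
# S2443 / S4171, the Suzuki group: the tables of the representatives (helper763)
-/

set_option autoImplicit false
set_option maxRecDepth 100000
set_option exponentiation.threshold 5000

namespace Cfsg.Agent.H763.Ore.SuzWord

open Cfsg.Spor Cfsg.Agent.Lib.BitNet
open Cfsg.Agent.H763.Ore.SuzModel Cfsg.Agent.H763.Ore.SuzTab Cfsg.Agent.H123.Cls
open Cfsg.Agent.Lib.BitNetSimple (force force_eq)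
open Cfsg.Agent.OddHalf.Table.SuzRep (ψ ψ_val ψ_injective)
open Cfsg.Agent.SporadicRecognition.SuzPhi (net net_ok gp φ_of)
open Cfsg.Agent.SporadicRecognition.SuzOrder (el)
open Cfsg.Agent.SuzThree.Basic (el_append el_cons el_nil)
open Cfsg.Agent.Lib.PermNet (Net.pt_eq)

/-- the letter of a number -/
def lt7 : ℕ → Suz.Gen
  | 0 => .a
  | 1 => .b
  | 2 => .c
  | 3 => .d
  | 4 => .e
  | 5 => .f
  | _ => .g

theorem ψ_tab (x : Suz.Gen) {P : ℕ} (h : allN (fun i => Nat.beq ((net x).pt i) (lk 11 P i)) 1782 = true)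
    (p : Fin 1782) : (ψ (el [x]) p : ℕ) = lk 11 P p := by
  have e : el [x] = PresentedGroup.of x := by simp [el]
  rw [e, ψ_val, φ_of, gp, ← Net.pt_eq (net_ok x)]
  exact Nat.eq_of_beq_eq_true ((allN_iff _ _).1 h p p.2)

theorem ψ_letter {x : ℕ} (hx : x < 7) (p : Fin 1782) : (ψ (el [lt7 x]) p : ℕ) = lk 11 (nth tabs x) p := by
  interval_cases x
  · exact ψ_tab .a ca p
  · exact ψ_tab .b cb p
  · exact ψ_tab .c cc p
  · exact ψ_tab .d cd p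
  · exact ψ_tab .e ce p
  · exact ψ_tab .f cf p
  · exact ψ_tab .g cg p

theorem ψ_word : ∀ {l : List ℕ}, (∀ x ∈ l, x < 7) → ∀ p : Fin 1782, (ψ (el (l.map lt7)) p : ℕ) = evw 11 tabs l p
  | [], _, p => by
    rw [List.map_nil, el_nil, map_one]
    rfl
  | x :: l, hl, p => by
    rw [List.map_cons, el_cons, map_mul, Equiv.Perm.mul_apply, ψ_letter (hl x List.mem_cons_self),
      ψ_word fun y hy => hl y (List.mem_cons_of_mem _ hy), evw_cons]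

/-- **the table of a commutator** -/
theorem comm_tab {P : ℕ} {a b : List ℕ} (h : chkC 1782 11 tabs P a b = true) (p : Fin 1782) :
    (ψ (el (a.map lt7) * el (b.map lt7) * (el (a.map lt7))⁻¹ * (el (b.map lt7))⁻¹) p : ℕ) = lk 11 P p := by
  obtain ⟨h1, h2⟩ := band_true h
  obtain ⟨h3, h4⟩ := band_true h2
  have hxp := ψ_word (l := a) (chkL_iff _ a h1)
  have hyp := ψ_word (l := b) (chkL_iff _ b h3)
  rw [map_mul, map_mul, map_mul, map_inv, map_inv]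
  set x := ψ (el (a.map lt7))
  set y := ψ (el (b.map lt7))
  obtain ⟨q, rfl⟩ : ∃ q, p = y (x q) := ⟨x⁻¹ (y⁻¹ p), by
    show p = y (x (x⁻¹ (y⁻¹ p)))
    rw [show x (x⁻¹ (y⁻¹ p)) = y⁻¹ p from Equiv.apply_symm_apply x _]
    exact (Equiv.apply_symm_apply y _).symm⟩
  have h5 := (allN_iff _ _).1 h4 q q.2
  rw [force_eq, force_eq, force_eq] at h5
  have h6 := Nat.eq_of_beq_eq_true h5
  rw [← hxp, ← hyp, ← hyp, ← hxp] at h6
  rw [h6]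
  have e : (x * y * x⁻¹ * y⁻¹) (y (x q)) = x (y q) := by
    show x (y (x⁻¹ (y⁻¹ (y (x q))))) = x (y q)
    rw [show y⁻¹ (y (x q)) = x q from Equiv.symm_apply_apply y _]
    rw [show x⁻¹ (x q) = q from Equiv.symm_apply_apply x _]
  rw [e]

theorem eq_of_tab {r s : Equiv.Perm (Fin 1782)} {P : ℕ} (hr : ∀ p : Fin 1782, (r p : ℕ) = lk 11 P p)
    (hs : ∀ p : Fin 1782, (s p : ℕ) = lk 11 P p) : r = s :=
  Equiv.ext fun p => Fin.ext ((hr p).trans (hs p).symm)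

/-- the words of the representatives, by numbers -/
def nA : ℕ → List ℕ
  | 0 => [5]
  | 1 => [0]
  | 2 => [4, 2, 1, 6, 3, 2]
  | 3 => [2]
  | 4 => [2]
  | 5 => [1, 3, 6, 5, 1]
  | 6 => [1]
  | 7 => [1, 4]
  | 8 => [5, 4, 6, 2]
  | 9 => [5, 1, 3]
  | 10 => [1, 0, 3, 1, 5, 6]
  | 11 => [4, 6, 5]
  | 12 => [1, 4]
  | 13 => [4, 0]
  | 14 => [1]
  | 15 => [2, 4, 1, 0]
  | 16 => [1, 2, 4]
  | 17 => [2, 1]
  | 18 => [2, 4, 6]
  | 19 => [2, 3, 6, 4, 2, 5]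
  | 20 => [6, 5, 3]
  | 21 => [4, 2, 1]
  | 22 => [3, 2, 0, 1]
  | 23 => [4, 3, 0, 2, 1, 6, 0]
  | 24 => [2, 1, 5]
  | 25 => [3, 2, 1]
  | 26 => [3, 1]
  | 27 => [3, 0, 1, 2, 6, 5]
  | 28 => [4, 2]
  | 29 => [1, 6]
  | 30 => [5, 1, 2, 3]
  | 31 => [3]
  | 32 => [5, 3, 1, 6]
  | 33 => [1, 6]
  | 34 => [1, 3]
  | 35 => [3]
  | 36 => [3]
  | _ => []

@[inherit_doc nA] def nB : ℕ → List ℕ
  | 0 => [6]
  | 1 => [0]
  | 2 => [1, 3]
  | 3 => [3, 2, 1, 6, 5, 1]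
  | 4 => [1, 6, 5, 3, 1]
  | 5 => [4, 2]
  | 6 => [2]
  | 7 => [3, 6, 2]
  | 8 => [1, 2, 3]
  | 9 => [2, 4, 6, 1]
  | 10 => [2, 4, 1]
  | 11 => [1, 2, 3]
  | 12 => [2, 3]
  | 13 => [3, 1]
  | 14 => [0]
  | 15 => [3, 1, 6]
  | 16 => [3, 5]
  | 17 => [6, 3]
  | 18 => [3, 1]
  | 19 => [3, 1]
  | 20 => [2, 1]
  | 21 => [6, 3, 5]
  | 22 => [0, 4, 6, 1, 5]
  | 23 => [3, 6, 1, 2, 5, 4]
  | 24 => [3, 1, 0]
  | 25 => [4, 0]
  | 26 => [6, 5, 1, 2]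
  | 27 => [4, 1]
  | 28 => [3]
  | 29 => [5, 1, 2]
  | 30 => [0, 4, 1]
  | 31 => [2, 1, 4, 6, 1, 5, 1, 2]
  | 32 => [1, 2]
  | 33 => [5, 2]
  | 34 => [4, 2, 0]
  | 35 => [2]
  | 36 => [4]
  | _ => []

theorem nA_eq (i : Fin 37) : (nA i).map lt7 = SuzFourC.wA i := by fin_cases i <;> rfl

theorem nB_eq (i : Fin 37) : (nB i).map lt7 = SuzFourC.wB i := by fin_cases i <;> rfl

open Cfsg.Agent.H777.Ore in
/-- **every element of `Suz` is a commutator and a product of four involutions, from the cover** -/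
theorem all_of_cover {tab : Fin 37 → ℕ} (hC : ∀ i : Fin 37, chkC 1782 11 tabs (tab i) (nA i) (nB i) = true)
    (hcov : ∀ g ∈ N, ∃ i : Fin 37, ∃ r ∈ N, (∀ p : Fin 1782, (r p : ℕ) = lk 11 (tab i) p) ∧ ∃ a ∈ A, g = a * r * a⁻¹)
    (g : Suz) : IsC g ∧ I4 g := by
  obtain ⟨i, r, _, hr, a, ha, h⟩ := hcov (ψ g) ⟨g, rfl⟩
  have h1 := eq_of_tab hr (comm_tab (hC i))
  rw [nA_eq, nB_eq] at h1
  rw [h1] at h
  exact ⟨SuzFour.isC_transfer ha h ⟨_, _, rfl⟩, SuzFour.i4_transfer ha h (SuzFourC.i4_rep i)⟩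

end Cfsg.Agent.H763.Ore.SuzWord
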